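import Groth.Prelude.Def_BigSite
import Groth.Agent.AlgSpc.EtLift
import Groth.Agent.Hensel.SmoothModel

/-! # Base change along a closed immersion is almost cocontinuous on big etale / smooth sites -/

set_option autoImplicit false
set_option linter.all false
set_option backward.isDefEq.respectTransparency false
set_option backward.defeqAttrib.useBackward true

noncomputable section

universe u

open CategoryTheory CategoryTheory.Limits AlgebraicGeometry Opposite

namespace Groth.Agent.BigClosed

/-- algebras with the property lift along surjections -/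
def Liftable (P : MorphismProperty Scheme.{u}) : Prop :=
  ∀ (A B C : CommRingCat.{u}) (a : A ⟶ B) (c : B ⟶ C), Function.Surjective a.hom → P (Spec.map c) →
    ∃ (Q : CommRingCat.{u}) (ψ : A ⟶ Q) (σ : Q ⟶ C), P (Spec.map ψ) ∧ Function.Surjective σ.hom ∧
      ψ ≫ σ = a ≫ c ∧ RingHom.ker σ.hom = (RingHom.ker a.hom).map ψ.hom

theorem liftable_etale : Liftable.{u} @Etale := by
  intro A B C a c ha hc
  rw [HasRingHomProperty.Spec_iff (P := @Etale)] at hc
  letI : Algebra A B := a.hom.toAlgebra
  letI : Algebra B C := c.hom.toAlgebra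
  letI : Algebra A C := (c.hom.comp a.hom).toAlgebra
  haveI : IsScalarTower A B C := IsScalarTower.of_algebraMap_eq' rfl
  haveI : Algebra.Etale B C := hc
  obtain ⟨Q, _, _, σ, hQ, hσ, hker⟩ := Groth.Agent.AlgSpc.exists_etale_lift A B C ha
  refine ⟨CommRingCat.of Q, CommRingCat.ofHom (algebraMap A Q), CommRingCat.ofHom σ.toRingHom, ?_, hσ, ?_, hker⟩
  · rw [HasRingHomProperty.Spec_iff (P := @Etale)]
    exact RingHom.etale_algebraMap.mpr hQ
  · ext x; exact σ.commutes x

theorem liftable_smooth : Liftable.{u} @Smooth := by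
  intro A B C a c ha hc
  rw [HasRingHomProperty.Spec_iff (P := @Smooth)] at hc
  let I := RingHom.ker a.hom
  let e : (A ⧸ I) ≃+* B := RingHom.quotientKerEquivOfSurjective ha
  letI : Algebra (A ⧸ I) C := (c.hom.comp e.toRingHom).toAlgebra
  letI : Algebra A C := (c.hom.comp a.hom).toAlgebra
  haveI : IsScalarTower A (A ⧸ I) C := IsScalarTower.of_algebraMap_eq fun x => rfl
  haveI : Algebra.Smooth (A ⧸ I) C :=
    RingHom.Smooth.propertyIsLocal.respectsIso.2 c.hom e hc
  obtain ⟨Q, _, _, σ, hQ, hσ, hker⟩ := Groth.Agent.Hensel.SmoothModel.exists_smooth_lift I C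
  refine ⟨CommRingCat.of Q, CommRingCat.ofHom (algebraMap A Q), CommRingCat.ofHom σ.toRingHom, ?_, hσ, ?_, hker⟩
  · rw [HasRingHomProperty.Spec_iff (P := @Smooth)]
    exact RingHom.smooth_algebraMap.mpr hQ
  · ext x; exact σ.commutes x

variable {P : MorphismProperty Scheme.{u}} [P.IsStableUnderBaseChange] [P.IsStableUnderComposition]
  [P.ContainsIdentities] {X Y : Scheme.{u}} (f : X ⟶ Y)

lemma bot_mem_of_isEmpty {V : Over X} (h : IsEmpty V.left) :
    (⊥ : Sieve V) ∈ QuotSh.J (Scheme.precoverage P) X V := by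
  rw [GrothendieckTopology.mem_over_iff]
  refine GrothendieckTopology.superset_covering _ ?_ (Precoverage.generate_mem_toGrothendieck
    (Scheme.bot_mem_precoverage (P := P) V.left))
  rintro Z g ⟨W, a, b, hb, -⟩
  exact hb.elim

theorem isAlmostCocontinuous_pullback [IsClosedImmersion f] (hopen : ∀ {A B : Scheme.{u}} (j : A ⟶ B) [IsOpenImmersion j], P j)
    (hlift : Liftable P) :
    BigSite.IsAlmostCocontinuous (Over.pullback f) (QuotSh.J (Scheme.precoverage P) Y)
      (QuotSh.J (Scheme.precoverage P) X) := by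
  intro U R hR
  let UX := (Over.pullback f).obj U
  let p : UX.left ⟶ U.left := pullback.fst U.hom f
  haveI hp : IsClosedImmersion p := MorphismProperty.pullback_fst _ _ inferInstance
  let R' : Sieve U :=
    { arrows := fun V g => (⊥ : Sieve ((Over.pullback f).obj V)) ∈ QuotSh.J (Scheme.precoverage P) X _ ∨
        R ((Over.pullback f).map g)
      downward_closed := fun {V W} g hg k => by
        rcases hg with hg | hg
        · left
          refine GrothendieckTopology.superset_covering _ ?_
            ((QuotSh.J (Scheme.precoverage P) X).pullback_stable ((Over.pullback f).map k) hg)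
          intro Z a ha
          exact ha.elim
        · right
          rw [Functor.map_comp]
          exact R.downward_closed hg _ }
  refine ⟨R', ?_, fun V g hg => hg⟩
  have key : ∀ u : U.left, ∃ (V : Scheme.{u}) (g : V ⟶ U.left) (v : V), g.base v = u ∧ P g ∧
      R'.arrows (Over.homMk g rfl : Over.mk (g ≫ U.hom) ⟶ U) := by
    intro u
    by_cases hu : u ∈ Set.range p.base
    · obtain ⟨x, rfl⟩ := hu
      rw [GrothendieckTopology.mem_over_iff] at hR
      obtain ⟨S, hS, hle⟩ := (Precoverage.mem_toGrothendieck_iff_of_isStableUnderComposition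
        (J := Scheme.precoverage P)).1 hR
      obtain ⟨W, h, hhS, hhP, w, hw⟩ : ∃ (W : Scheme.{u}) (h : W ⟶ UX.left), S h ∧ P h ∧ ∃ w : W, h.base w = x := by
        have e : S = Presieve.ofArrows (fun k : (Σ Z : Scheme.{u}, {g : Z ⟶ UX.left // S g}) => k.1) (fun k => k.2.1) := by
          funext Z
          ext g
          refine ⟨fun h => Presieve.ofArrows.mk (⟨Z, g, h⟩ : Σ Z : Scheme.{u}, {g : Z ⟶ UX.left // S g}), ?_⟩
          rintro ⟨k⟩; exact k.2.2
        have h := (Scheme.ofArrows_mem_precoverage_iff _).1 (e ▸ hS)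
        obtain ⟨⟨W, g, hg⟩, w, hw⟩ := h.1 x
        exact ⟨W, g, hg, h.2 ⟨W, g, hg⟩, w, hw⟩
      obtain ⟨A, hA, hxA, -⟩ := exists_isAffineOpen_mem_and_subset (x := p x) (U := ⊤) trivial
      have hB : IsAffineOpen (p ⁻¹ᵁ A) := hA.preimage p
      obtain ⟨W₀, hW₀, hwW₀, e⟩ := exists_isAffineOpen_mem_and_subset (x := w) (U := h ⁻¹ᵁ (p ⁻¹ᵁ A))
        (by show p (h w) ∈ A; rw [hw]; exact hxA)
      let a := p.app A
      let c := h.appLE (p ⁻¹ᵁ A) W₀ e
      have ha : Function.Surjective a.hom := p.app_surjective A hA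
      have hc₀ : P (Spec.map c ≫ hB.fromSpec) := by
        rw [IsAffineOpen.SpecMap_appLE_fromSpec h hB hW₀ e]
        exact P.comp_mem _ _ (hopen _) hhP
      have hc : P (Spec.map c) := by
        refine (MorphismProperty.of_isPullback (P := P) (IsPullback.of_horiz_isIso_mono (fst := 𝟙 _)
          (snd := Spec.map c) (f := Spec.map c ≫ hB.fromSpec) (g := hB.fromSpec) ⟨by simp⟩)) hc₀
      obtain ⟨Q, ψ, σ, hψ, hσ, hsq, hker⟩ := hlift _ _ _ a c ha hc
      let g : Spec Q ⟶ U.left := Spec.map ψ ≫ hA.fromSpec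
      let q₀ := hW₀.primeIdealOf ⟨w, hwW₀⟩
      refine ⟨Spec Q, g, Spec.map σ q₀, ?_, P.comp_mem _ _ hψ (hopen _), Or.inr ?_⟩
      · have e₁ : Spec.map σ ≫ g = (hW₀.fromSpec ≫ h) ≫ p := by
          rw [← IsAffineOpen.SpecMap_appLE_fromSpec h hB hW₀ e, Category.assoc,
            ← IsAffineOpen.SpecMap_appLE_fromSpec p hA hB le_rfl, Scheme.Hom.appLE_eq_app,
            ← Spec.map_comp_assoc, ← Spec.map_comp_assoc]
          exact congrArg (fun k => Spec.map k ≫ hA.fromSpec) hsq
        rw [← Scheme.Hom.comp_apply, e₁, Scheme.Hom.comp_apply, Scheme.Hom.comp_apply]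
        show p (h (hW₀.fromSpec q₀)) = p x
        rw [hW₀.fromSpec_primeIdealOf ⟨w, hwW₀⟩]
        exact congrArg (fun z => p z) hw
      · let g' : Over.mk (g ≫ U.hom) ⟶ U := Over.homMk g rfl
        let T := ((Over.pullback f).obj (Over.mk (g ≫ U.hom))).left
        let q : T ⟶ Spec Q := pullback.fst _ _
        let k : T ⟶ UX.left := ((Over.pullback f).map g').left
        have hk : k ≫ p = q ≫ g := by simp [k, p, q, g']
        have hkr : Set.range k ⊆ Set.range hB.fromSpec := by
          rintro _ ⟨t, rfl⟩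
          rw [hB.range_fromSpec]
          show p (k t) ∈ A
          rw [← Scheme.Hom.comp_apply, hk, Scheme.Hom.comp_apply]
          show g (q t) ∈ A
          have : g (q t) ∈ Set.range hA.fromSpec := ⟨Spec.map ψ (q t), rfl⟩
          rwa [hA.range_fromSpec] at this
        let k₀ := IsOpenImmersion.lift hB.fromSpec k hkr
        let qh : Q ⟶ Γ(T, ⊤) := (Scheme.ΓSpecIso Q).inv ≫ q.appTop
        let kh : Γ(UX.left, p ⁻¹ᵁ A) ⟶ Γ(T, ⊤) := (Scheme.ΓSpecIso _).inv ≫ k₀.appTop
        have hq : T.toSpecΓ ≫ Spec.map qh = q := by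
          simp only [qh, Spec.map_comp, ← Scheme.toSpecΓ_naturality_assoc]
          simp
        have hk₀ : T.toSpecΓ ≫ Spec.map kh = k₀ := by
          simp only [kh, Spec.map_comp, ← Scheme.toSpecΓ_naturality_assoc]
          simp
        have e₂ : a ≫ kh = ψ ≫ qh := by
          have h₀ : k₀ ≫ Spec.map a = q ≫ Spec.map ψ := by
            rw [← cancel_mono hA.fromSpec, Category.assoc, Category.assoc]
            show k₀ ≫ Spec.map (p.app A) ≫ hA.fromSpec = q ≫ g
            rw [← hk, ← Scheme.Hom.appLE_eq_app, IsAffineOpen.SpecMap_appLE_fromSpec p hA hB le_rfl,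
              IsOpenImmersion.lift_fac_assoc]
          rw [← hq, ← hk₀, Category.assoc, Category.assoc, ← Spec.map_comp, ← Spec.map_comp] at h₀
          refine Quiver.Hom.op_inj ((ΓSpec.adjunction.homEquiv T (op Γ(U.left, A))).injective ?_)
          rw [Adjunction.homEquiv_unit, Adjunction.homEquiv_unit]
          exact h₀
        have hle' : RingHom.ker σ.hom ≤ RingHom.ker qh.hom := by
          rw [hker, Ideal.map_le_iff_le_comap]
          intro z hz
          show qh.hom (ψ.hom z) = 0
          have := congrArg (fun m => m.hom z) e₂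
          simp only [CommRingCat.hom_comp, RingHom.comp_apply] at this
          rw [← this, show a.hom z = 0 from hz, map_zero]
        let ρ : Γ(W, W₀) ⟶ Γ(T, ⊤) := CommRingCat.ofHom (σ.hom.liftOfSurjective hσ ⟨qh.hom, hle'⟩)
        have hρ : σ ≫ ρ = qh := by
          ext z
          exact RingHom.liftOfSurjective_comp_apply _ hσ ⟨qh.hom, hle'⟩ z
        have hρc : c ≫ ρ = kh := by
          ext z
          obtain ⟨z, rfl⟩ := ha z
          have h1 := congrArg (fun m => m.hom z) e₂
          have h2 := congrArg (fun m => ρ.hom (m.hom z)) hsq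
          have h3 := congrArg (fun m => m.hom (ψ.hom z)) hρ
          simp only [CommRingCat.hom_comp, RingHom.comp_apply] at h1 h2 h3 ⊢
          rw [← h2, h3, h1]
        have e₃ : (T.toSpecΓ ≫ Spec.map ρ ≫ hW₀.fromSpec) ≫ h = k := by
          rw [Category.assoc, Category.assoc, ← IsAffineOpen.SpecMap_appLE_fromSpec h hB hW₀ e,
            ← Spec.map_comp_assoc, hρc, reassoc_of% hk₀, IsOpenImmersion.lift_fac]
        have hmem : (Sieve.overEquiv _ R).arrows k := by
          rw [← e₃]
          exact (Sieve.overEquiv _ R).downward_closed (hle _ _ hhS) _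
        rw [Sieve.overEquiv_iff] at hmem
        let i : (Over.pullback f).obj (Over.mk (g ≫ U.hom)) ⟶ Over.mk (k ≫ UX.hom) :=
          Over.homMk (𝟙 T) ((Category.id_comp _).trans (Over.w ((Over.pullback f).map g')))
        have : (Over.pullback f).map g' = i ≫ Over.homMk k := by
          refine Over.OverMorphism.ext ?_
          exact (Category.id_comp _).symm
        rw [this]
        exact R.downward_closed hmem i
    · let O : U.left.Opens := ⟨(Set.range p.base)ᶜ, p.isClosedEmbedding.isClosed_range.isOpen_compl⟩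
      refine ⟨O, O.ι, ⟨u, hu⟩, rfl, hopen _, Or.inl (bot_mem_of_isEmpty ⟨fun t => ?_⟩)⟩
      let g' : Over.mk (O.ι ≫ U.hom) ⟶ U := Over.homMk O.ι rfl
      let k := ((Over.pullback f).map g').left
      have hk : k ≫ p = pullback.fst _ _ ≫ O.ι := by simp [k, p, g']
      have h1 : (k ≫ p) t ∈ (O : Set U.left) := by
        rw [hk, Scheme.Hom.comp_apply]
        exact (pullback.fst (O.ι ≫ U.hom) f t).2
      exact h1 ⟨k t, rfl⟩
  choose V g v hv hgP hgR using key
  rw [GrothendieckTopology.mem_over_iff]
  refine GrothendieckTopology.superset_covering _ ?_ (Precoverage.generate_mem_toGrothendieck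
    ((Scheme.ofArrows_mem_precoverage_iff (P := P) (X := V) (f := g)).2 ⟨fun x => ⟨x, v x, hv x⟩, hgP⟩))
  rw [Sieve.generate_le_iff]
  rintro _ _ ⟨i⟩
  rw [Sieve.overEquiv_iff]
  exact hgR i

end Groth.Agent.BigClosed
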