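import Groth.Prelude.Def_BigSite
import Mathlib.CategoryTheory.Sites.LocallyBijective
import Mathlib.CategoryTheory.Limits.Types.Colimits
import Mathlib.CategoryTheory.Sites.EpiMono
import Mathlib.CategoryTheory.IsConnected
import Mathlib.Algebra.Homology.ShortComplex.ExactFunctor

/-! # Almost cocontinuous functors between large sites: push forward and connected colimits, epimorphisms -/

set_option autoImplicit false
set_option linter.all false
set_option backward.isDefEq.respectTransparency false
set_option backward.defeqAttrib.useBackward true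

noncomputable section

open CategoryTheory CategoryTheory.Limits Opposite

namespace Groth.Agent.BigClosed

universe v u₁ w

variable {C D : Type u₁} [Category.{v} C] [Category.{v} D] (J : GrothendieckTopology C)
  (K : GrothendieckTopology D) (u : C ⥤ D) [u.IsContinuous J K] [HasSheafify J (Type w)] [HasSheafify K (Type w)]
  [J.WEqualsLocallyBijective (Type w)] [K.WEqualsLocallyBijective (Type w)]

/-- the comparison of sheafifications -/
def cmp : (Functor.whiskeringLeft _ _ (Type w)).obj u.op ⋙ presheafToSheaf J (Type w) ⟶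
    presheafToSheaf K (Type w) ⋙ u.sheafPushforwardContinuous (Type w) J K where
  app G := ((sheafificationAdjunction J (Type w)).homEquiv (u.op ⋙ G)
      ((u.sheafPushforwardContinuous (Type w) J K).obj ((presheafToSheaf K (Type w)).obj G))).symm
        (Functor.whiskerLeft u.op (toSheafify K G))
  naturality {G H} f := by
    dsimp
    refine ((sheafificationAdjunction J (Type w)).homEquiv_naturality_left_symm _ _).symm.trans
      (Eq.trans (congrArg _ ?_) ((sheafificationAdjunction J (Type w)).homEquiv_naturality_right_symm _ _))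
    show Functor.whiskerLeft u.op f ≫ Functor.whiskerLeft u.op (toSheafify K H) =
      Functor.whiskerLeft u.op (toSheafify K G) ≫ Functor.whiskerLeft u.op (sheafifyMap K f)
    rw [← Functor.whiskerLeft_comp, ← Functor.whiskerLeft_comp, toSheafify_naturality]

/-- values over objects covered by the empty sieve are points -/
theorem subsingleton_of_bot_mem (F : Sheaf K (Type w)) {V : D} (h : (⊥ : Sieve V) ∈ K V) :
    Subsingleton (F.obj.obj (op V)) :=
  ⟨fun a b => (((isSheaf_iff_isSheaf_of_type _ _).1 F.property).isSeparated _ h).ext fun _ _ hf => hf.elim⟩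

theorem nonempty_of_bot_mem (F : Sheaf K (Type w)) {V : D} (h : (⊥ : Sieve V) ∈ K V) :
    Nonempty (F.obj.obj (op V)) :=
  ⟨((((isSheaf_iff_isSheaf_of_type _ _).1 F.property) _ h) (fun _ _ hf => hf.elim)
    (fun _ _ _ _ _ _ _ hf => hf.elim)).choose⟩

variable {J K u}

theorem isIso_cmp (hu : BigSite.IsAlmostCocontinuous u J K) (G : Dᵒᵖ ⥤ Type w)
    (hG : ∀ V : D, (⊥ : Sieve V) ∈ K V → Nonempty (Unique (G.obj (op V)))) :
    IsIso ((cmp J K u).app G) := by
  let φ : u.op ⋙ G ⟶ u.op ⋙ sheafify K G := Functor.whiskerLeft u.op (toSheafify K G)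
  haveI : Presheaf.IsLocallyInjective J φ := ⟨fun {U} a b hab => by
    obtain ⟨R', hR', h⟩ := hu U.unop (Presheaf.equalizerSieve (F := G) a b)
      (Presheaf.equalizerSieve_mem K (toSheafify K G) (X := op (u.obj U.unop)) a b hab)
    refine J.superset_covering (fun V g hg => ?_) hR'
    rcases h g hg with hb | he
    · obtain ⟨i⟩ := hG _ hb
      exact @Subsingleton.elim (G.obj (op (u.obj V))) inferInstance _ _
    · exact he⟩
  haveI : Presheaf.IsLocallySurjective J φ := ⟨fun {U} s => by
    obtain ⟨R', hR', h⟩ := hu U (Presheaf.imageSieve (toSheafify K G) (U := u.obj U) s)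
      (Presheaf.imageSieve_mem K (toSheafify K G) (U := op (u.obj U)) s)
    refine J.superset_covering (fun V g hg => ?_) hR'
    rcases h g hg with hb | he
    · obtain ⟨i⟩ := hG _ hb
      exact ⟨i.default, (subsingleton_of_bot_mem K ((presheafToSheaf K (Type w)).obj G) hb).elim _ _⟩
    · exact he⟩
  haveI : IsIso ((presheafToSheaf J (Type w)).map φ) :=
    ((J.W_iff φ).1 ((J.W_iff_isLocallyBijective φ).2 ⟨inferInstance, inferInstance⟩))
  show IsIso (((sheafificationAdjunction J (Type w)).homEquiv (u.op ⋙ G)
    ((u.sheafPushforwardContinuous (Type w) J K).obj ((presheafToSheaf K (Type w)).obj G))).symm φ)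
  rw [Adjunction.homEquiv_counit]
  infer_instance

theorem preservesColimitsOfShape (hu : BigSite.IsAlmostCocontinuous u J K) (I : Type) [SmallCategory I]
    [FinCategory I] [IsConnected I] :
    PreservesColimitsOfShape I (u.sheafPushforwardContinuous (Type w) J K) := by
  refine ⟨fun {F} => ?_⟩
  let P := F ⋙ sheafToPresheaf K (Type w)
  let c := colimit.cocone P
  let W := (Functor.whiskeringLeft Cᵒᵖ Dᵒᵖ (Type w)).obj u.op
  let L₁ := W ⋙ presheafToSheaf J (Type w)
  let L₂ := presheafToSheaf K (Type w) ⋙ u.sheafPushforwardContinuous (Type w) J K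
  haveI : ∀ j, IsIso ((cmp J K u).app (P.obj j)) := fun j => isIso_cmp hu _ fun V hV =>
    ⟨@uniqueOfSubsingleton _ (subsingleton_of_bot_mem K (F.obj j) hV) (nonempty_of_bot_mem K (F.obj j) hV).some⟩
  haveI : IsIso ((cmp J K u).app c.pt) := isIso_cmp hu _ fun V hV => by
    let ev := (evaluation Dᵒᵖ (Type w)).obj (op V)
    have hc := isColimitOfPreserves ev (colimit.isColimit P)
    obtain ⟨j₀⟩ : Nonempty I := IsConnected.is_nonempty
    obtain ⟨x₀⟩ := nonempty_of_bot_mem K (F.obj j₀) hV
    let pt (j : I) : (ev.mapCocone c).pt := (ev.mapCocone c).ι.app j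
      (nonempty_of_bot_mem K (F.obj j) hV).some
    have hpt : ∀ j j', pt j = pt j' := fun j j' => by
      refine constant_of_preserves_morphisms pt (fun a b f => ?_) j j'
      refine (ConcreteCategory.congr_hom ((ev.mapCocone c).w f) _).symm.trans ?_
      exact congrArg ((ev.mapCocone c).ι.app b) ((subsingleton_of_bot_mem K (F.obj b) hV).elim _ _)
    haveI : Subsingleton (c.pt.obj (op V)) := ⟨fun a b => by
      obtain ⟨i, x, rfl⟩ := Types.jointly_surjective_of_isColimit hc a
      obtain ⟨j, y, rfl⟩ := Types.jointly_surjective_of_isColimit hc b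
      rw [(subsingleton_of_bot_mem K (F.obj i) hV).elim x (nonempty_of_bot_mem K (F.obj i) hV).some,
        (subsingleton_of_bot_mem K (F.obj j) hV).elim y (nonempty_of_bot_mem K (F.obj j) hV).some]
      exact hpt i j⟩
    exact ⟨uniqueOfSubsingleton (pt j₀)⟩
  haveI : PreservesColimitsOfSize.{w, w} (presheafToSheaf J (Type w)) :=
    (sheafificationAdjunction J (Type w)).leftAdjoint_preservesColimits
  haveI : PreservesColimitsOfSize.{0, 0} (presheafToSheaf J (Type w)) :=
    (sheafificationAdjunction J (Type w)).leftAdjoint_preservesColimits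
  haveI : PreservesColimitsOfSize.{0, 0} (presheafToSheaf K (Type w)) :=
    (sheafificationAdjunction K (Type w)).leftAdjoint_preservesColimits
  have h₁ : IsColimit (L₁.mapCocone c) := isColimitOfPreserves L₁ (colimit.isColimit P)
  let e : P ⋙ L₁ ≅ P ⋙ L₂ := NatIso.ofComponents (fun j => asIso ((cmp J K u).app (P.obj j)))
    (fun {i j} f => (cmp J K u).naturality (P.map f))
  have h₂ : IsColimit (L₂.mapCocone c) := by
    refine (IsColimit.precomposeHomEquiv e _).1 (IsColimit.ofIsoColimit h₁
      (Cocone.ext (asIso ((cmp J K u).app c.pt)) fun j => ?_))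
    exact (cmp J K u).naturality (c.ι.app j)
  have hK : IsColimit ((presheafToSheaf K (Type w)).mapCocone c) :=
    isColimitOfPreserves _ (colimit.isColimit P)
  haveI : PreservesColimit (P ⋙ presheafToSheaf K (Type w)) (u.sheafPushforwardContinuous (Type w) J K) :=
    preservesColimit_of_preserves_colimit_cocone hK h₂
  exact preservesColimit_of_iso_diagram _
    (Functor.associator _ _ _ ≪≫ Functor.isoWhiskerLeft F (asIso (sheafificationAdjunction K (Type w)).counit) ≪≫
      F.rightUnitor : P ⋙ presheafToSheaf K (Type w) ≅ F)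


theorem isLocallySurjective_map_ab (hu : BigSite.IsAlmostCocontinuous u J K) {F G : Sheaf K AddCommGrpCat.{w}}
    (φ : F ⟶ G) [Sheaf.IsLocallySurjective φ] :
    Sheaf.IsLocallySurjective ((u.sheafPushforwardContinuous AddCommGrpCat.{w} J K).map φ) :=
  ⟨fun {U} s => by
    obtain ⟨R', hR', h⟩ := hu U (Presheaf.imageSieve φ.hom (U := u.obj U) s)
      (Presheaf.imageSieve_mem K φ.hom (U := op (u.obj U)) s)
    refine J.superset_covering (fun V g hg => ?_) hR'
    rcases h g hg with hb | he
    · have hs : Subsingleton (G.obj.obj (op (u.obj V))) :=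
        ⟨fun a b => Presheaf.IsSheaf.isSeparated (G.property) _ (⊥ : Sieve (u.obj V)) hb a b fun _ _ hf => hf.elim⟩
      exact ⟨0, hs.elim _ _⟩
    · exact he⟩

end Groth.Agent.BigClosed
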